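import Groth.Prelude.Def_GmAct
import Groth.Agent.CoactPtsLib.Bridge
import Mathlib

/-!
# Equivariant families over the affine line
-/

set_option autoImplicit false
set_option backward.isDefEq.respectTransparency false
set_option backward.isDefEq.respectTransparency.types false

noncomputable section

universe u

open CategoryTheory MonoidalCategory CartesianMonoidalCategory MonObj AlgebraicGeometry
open scoped TensorProduct Polynomial

namespace Groth.Agent.LineFam

attribute [-instance] CategoryTheory.Hom.commGroup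

variable (R : Type u) [CommRing R]

/-- The inclusion of the multiplicative group in the line. -/
abbrev incl : ThetaS.Gm R ⟶ ThetaS.Line R := CoactBr.pt (ThetaS.linePt (ThetaS.zPow R 1))

variable {R}

theorem pt_comp_incl {C : Type u} [CommRing C] [Algebra R C] (lam : ThetaS.Lau R →ₐ[R] C) :
    (CoactBr.pt lam ≫ incl R : CoactBr.sp R C ⟶ ThetaS.Line R) = CoactBr.pt (ThetaS.linePt (lam (ThetaS.zPow R 1))) := by
  rw [incl, ← CoactBr.pt_comp]
  congr 1
  exact Polynomial.algHom_ext (by simp)

/-- Scaling a point of the multiplicative group. -/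
theorem act_incl {T : Over (Spec (CommRingCat.of R))} (g h : T ⟶ ThetaS.Gm R) :
    lift g (h ≫ incl R) ≫ (ThetaS.lineAction R).act = (g * h) ≫ incl R := by
  refine CoactPtsLib.eq_of_forall_sp fun C _ _ j => ?_
  rw [← Category.assoc, comp_lift, ← Category.assoc j h, ← Category.assoc j (g * h), MonObj.comp_mul]
  obtain ⟨lam, hl⟩ := CoactPtsLib.exists_pt (B := ThetaS.Lau R) (j ≫ g)
  obtain ⟨mu, hm⟩ := CoactPtsLib.exists_pt (B := ThetaS.Lau R) (j ≫ h)
  rw [hl, hm, pt_comp_incl, ThetaS.lineAction_pt, CoactBr.pt_mul_pt, pt_comp_incl]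
  congr 2
  rw [AlgHom.comp_apply, Bialgebra.comulAlgHom_apply, ThetaS.comul_zPow, Algebra.TensorProduct.lift_tmul]

/-- Maps to a separated scheme which agree on `Gm × T` agree on `Line × T`. -/
theorem eq_of_line {X T : Over (Spec (CommRingCat.of R))} [IsSeparated X.hom] {u v : ThetaS.Line R ⊗ T ⟶ X}
    (h : (incl R ▷ T) ≫ u = (incl R ▷ T) ≫ v) : u = v := by
  refine CoactPtsLib.eq_of_forall_sp fun C _ _ j => ?_
  obtain ⟨φ, hφ⟩ := CoactPtsLib.exists_pt (B := R[X]) (j ≫ fst (ThetaS.Line R) T)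
  let a : C := φ Polynomial.X
  let ev : C[X] →ₐ[R] C := (Polynomial.aeval a).restrictScalars R
  let cC : C →ₐ[R] C[X] := IsScalarTower.toAlgHom R C C[X]
  let w : CoactBr.sp R C[X] ⟶ ThetaS.Line R ⊗ T :=
    lift (CoactBr.pt (ThetaS.linePt (Polynomial.X : C[X]))) (CoactBr.pt cC ≫ j ≫ snd (ThetaS.Line R) T)
  have hj : CoactBr.pt ev ≫ w = j := by
    apply CartesianMonoidalCategory.hom_ext
    · rw [Category.assoc, lift_fst, ← CoactBr.pt_comp, hφ]
      congr 1
      exact Polynomial.algHom_ext (by simp [ev, a])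
    · rw [Category.assoc, lift_snd, ← Category.assoc, ← CoactBr.pt_comp,
        show ev.comp cC = AlgHom.id R C from AlgHom.ext fun c => by simp [ev, cC], CoactBr.pt_id, Category.id_comp]
  rw [← hj, Category.assoc, Category.assoc]
  congr 1
  let L : Type u := MonoidAlgebra C (Multiplicative ℤ)
  let e : L := MonoidAlgebra.single (Multiplicative.ofAdd (1 : ℤ)) 1
  let ι' : C[X] →ₐ[R] L := (Polynomial.aeval e).restrictScalars R
  have hinj : Function.Injective ι' := by
    have hco : ∀ (p : C[X]) (n : ℕ), (ι' p).coeff (Multiplicative.ofAdd (n : ℤ)) = p.coeff n := by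
      intro p n
      induction p using Polynomial.induction_on' with
      | add p q hp hq => rw [map_add, MonoidAlgebra.coeff_add, Finsupp.add_apply, hp, hq, Polynomial.coeff_add]
      | monomial i c =>
        have he : ι' (Polynomial.monomial i c) = MonoidAlgebra.single (Multiplicative.ofAdd (i : ℤ)) c := by
          have hpow : ∀ i : ℕ, e ^ i = MonoidAlgebra.single (Multiplicative.ofAdd (i : ℤ)) (1 : C) := by
            intro i
            induction i with
            | zero => rw [pow_zero, Nat.cast_zero]; rfl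
            | succ i ih =>
              rw [pow_succ, ih]
              exact (MonoidAlgebra.single_mul_single _ _ _ _).trans (by simp [← ofAdd_add])
          simp only [ι', AlgHom.restrictScalars_apply, Polynomial.aeval_monomial]
          rw [hpow]
          exact (MonoidAlgebra.single_eq_algebraMap_mul_of _ c).symm
        rw [he, Polynomial.coeff_monomial, MonoidAlgebra.coeff_single]
        by_cases hin : i = n
        · subst hin; simp
        · rw [if_neg hin, Finsupp.single_eq_of_ne]
          intro hc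
          exact hin (Int.ofNat_inj.1 (Multiplicative.ofAdd.injective hc.symm))
    intro p q hpq
    ext n
    rw [← hco, ← hco, hpq]
  let gL : ThetaS.Lau R →ₐ[R] L := MonoidAlgebra.lift R L (Multiplicative ℤ) (MonoidAlgebra.of C (Multiplicative ℤ))
  have hw : CoactBr.pt ι' ≫ w = lift (CoactBr.pt gL) (CoactBr.pt ι' ≫ CoactBr.pt cC ≫ j ≫ snd (ThetaS.Line R) T) ≫
      (incl R ▷ T) := by
    rw [lift_whiskerRight, comp_lift, pt_comp_incl, ← CoactBr.pt_comp]
    congr 2
    have hz : gL (ThetaS.zPow R 1) = e := (MonoidAlgebra.lift_single _ _ _).trans (one_smul _ _)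
    exact Polynomial.algHom_ext (by simp [ι', hz])
  have huv : CoactBr.pt ι' ≫ w ≫ u = CoactBr.pt ι' ≫ w ≫ v := by
    rw [← Category.assoc, ← Category.assoc, hw, Category.assoc, Category.assoc, h]
  let m : (CoactBr.sp R C[X]).left ⟶ Limits.pullback X.hom X.hom :=
    Limits.pullback.lift (w ≫ u).left (w ≫ v).left (by rw [Over.w, Over.w])
  let p := Limits.pullback.fst m (Limits.pullback.diagonal X.hom)
  haveI : IsClosedImmersion p := MorphismProperty.pullback_fst _ _ IsSeparated.isClosedImmersion_diagonal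
  haveI : IsAffine (CoactBr.sp R C[X]).left := inferInstanceAs (IsAffine (Spec (CommRingCat.of C[X])))
  let l : (CoactBr.sp R L).left ⟶ Limits.pullback m (Limits.pullback.diagonal X.hom) :=
    Limits.pullback.lift (CoactBr.pt ι').left (CoactBr.pt ι' ≫ w ≫ u).left (by
      apply Limits.pullback.hom_ext
      · simp [m]
      · simp only [m, Category.assoc, Limits.pullback.lift_snd, Limits.pullback.diagonal_snd, Category.comp_id]
        rw [← Over.comp_left, ← huv])
  have hp : Function.Injective p.appTop := by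
    have hl : l ≫ p = (CoactBr.pt ι').left := Limits.pullback.lift_fst _ _ _
    have hinj' : Function.Injective (CoactBr.pt ι').left.appTop := by
      show Function.Injective (Spec.map (CommRingCat.ofHom ι'.toRingHom)).appTop
      intro x y hxy
      have := congrArg (Scheme.ΓSpecIso (CommRingCat.of L)).hom hxy
      rw [← CommRingCat.comp_apply, ← CommRingCat.comp_apply, Scheme.ΓSpecIso_naturality] at this
      exact (ConcreteCategory.bijective_of_isIso (Scheme.ΓSpecIso (CommRingCat.of C[X])).hom).1 (hinj this)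
    intro x y hxy
    refine hinj' ?_
    rw [← hl, Scheme.Hom.comp_appTop, CommRingCat.comp_apply, CommRingCat.comp_apply, hxy]
  haveI : IsIso p := IsClosedImmersion.isIso_of_injective_of_isAffine hp
  refine Over.OverMorphism.ext ?_
  rw [← cancel_epi p]
  have e₁ : p ≫ (w ≫ u).left = Limits.pullback.snd m (Limits.pullback.diagonal X.hom) := by
    have := congrArg (· ≫ Limits.pullback.fst X.hom X.hom)
      (Limits.pullback.condition (f := m) (g := Limits.pullback.diagonal X.hom))
    simpa [m, p] using this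
  have e₂ : p ≫ (w ≫ v).left = Limits.pullback.snd m (Limits.pullback.diagonal X.hom) := by
    have := congrArg (· ≫ Limits.pullback.snd X.hom X.hom)
      (Limits.pullback.condition (f := m) (g := Limits.pullback.diagonal X.hom))
    simpa [m, p] using this
  exact e₁.trans e₂.symm

variable {X T : Over (Spec (CommRingCat.of R))} (a : AlgGrp.Action (ThetaS.Gm R) X)

/-- The scaled point `(λ, t) ↦ λ · u (1, t)`. -/
theorem incl_comp_eq {u : ThetaS.Line R ⊗ T ⟶ X}
    (hu : (α_ (ThetaS.Gm R) (ThetaS.Line R) T).inv ≫ ((ThetaS.lineAction R).act ▷ T) ≫ u = (ThetaS.Gm R ◁ u) ≫ a.act) :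
    (incl R ▷ T) ≫ u = (ThetaS.Gm R ◁ (lift ((1 : T ⟶ ThetaS.Gm R) ≫ incl R) (𝟙 T) ≫ u)) ≫ a.act := by
  let q : ThetaS.Gm R ⊗ T ⟶ ThetaS.Gm R ⊗ (ThetaS.Line R ⊗ T) :=
    ThetaS.Gm R ◁ lift ((1 : T ⟶ ThetaS.Gm R) ≫ incl R) (𝟙 T)
  have h := congrArg (q ≫ ·) hu
  have e : q ≫ (α_ (ThetaS.Gm R) (ThetaS.Line R) T).inv ≫ ((ThetaS.lineAction R).act ▷ T) = incl R ▷ T := by
    have hq : q = lift (fst (ThetaS.Gm R) T)
        (lift ((1 : ThetaS.Gm R ⊗ T ⟶ ThetaS.Gm R) ≫ incl R) (snd (ThetaS.Gm R) T)) := by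
      apply CartesianMonoidalCategory.hom_ext
      · exact (whiskerLeft_fst _ _).trans (lift_fst _ _).symm
      · rw [whiskerLeft_snd, lift_snd, comp_lift, ← Category.assoc, Category.comp_id, Hom.one_def, Hom.one_def,
          ← Category.assoc, toUnit_unique (snd (ThetaS.Gm R) T ≫ toUnit T) (toUnit _)]
    rw [hq, lift_lift_associator_inv_assoc, lift_whiskerRight, act_incl, _root_.mul_one]
    apply CartesianMonoidalCategory.hom_ext <;> simp
  simp only [q, ← MonoidalCategory.whiskerLeft_comp_assoc] at h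
  rw [← h, ← reassoc_of% e]

/-- An extension of an orbit map is equivariant. -/
theorem equivariant_of_extends [IsSeparated X.hom] (x : T ⟶ X) (u : ThetaS.Line R ⊗ T ⟶ X)
    (h : (incl R ▷ T) ≫ u = (ThetaS.Gm R ◁ x) ≫ a.act) :
    (α_ (ThetaS.Gm R) (ThetaS.Line R) T).inv ≫ ((ThetaS.lineAction R).act ▷ T) ≫ u = (ThetaS.Gm R ◁ u) ≫ a.act := by
  let G := ThetaS.Gm R
  let A := ThetaS.Line R
  let σ : A ⊗ (G ⊗ T) ⟶ G ⊗ (A ⊗ T) :=
    lift (snd A (G ⊗ T) ≫ fst G T) (lift (fst A (G ⊗ T)) (snd A (G ⊗ T) ≫ snd G T))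
  let τ : G ⊗ (A ⊗ T) ⟶ A ⊗ (G ⊗ T) :=
    lift (snd G (A ⊗ T) ≫ fst A T) (lift (fst G (A ⊗ T)) (snd G (A ⊗ T) ≫ snd A T))
  have hτσ : τ ≫ σ = 𝟙 _ := by
    apply CartesianMonoidalCategory.hom_ext
    · simp only [τ, σ, Category.assoc, lift_fst, lift_snd_assoc, Category.id_comp]
    · apply CartesianMonoidalCategory.hom_ext
      · simp only [τ, σ, Category.assoc, lift_fst, lift_snd_assoc, lift_fst_assoc, lift_snd, Category.id_comp]
      · simp only [τ, σ, Category.assoc, lift_fst, lift_snd_assoc, lift_fst_assoc, lift_snd, Category.id_comp]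
  have key : ∀ {U : Over (Spec (CommRingCat.of R))} (g : U ⟶ G) (t : U ⟶ T),
      lift (g ≫ incl R) t ≫ u = lift g (t ≫ x) ≫ a.act := fun g t => by
    rw [← lift_whiskerRight, Category.assoc, h, lift_whiskerLeft_assoc]
  rw [← Category.id_comp ((α_ (ThetaS.Gm R) (ThetaS.Line R) T).inv ≫ _),
    ← Category.id_comp ((ThetaS.Gm R ◁ u) ≫ a.act), ← hτσ, Category.assoc, Category.assoc]
  congr 1
  refine eq_of_line ?_
  let h₁ : G ⊗ (G ⊗ T) ⟶ G := fst G (G ⊗ T)
  let g₁ : G ⊗ (G ⊗ T) ⟶ G := snd G (G ⊗ T) ≫ fst G T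
  let t₁ : G ⊗ (G ⊗ T) ⟶ T := snd G (G ⊗ T) ≫ snd G T
  have hσ : (incl R ▷ (G ⊗ T)) ≫ σ = lift g₁ (lift (h₁ ≫ incl R) t₁) := by
    simp only [G, A, σ, g₁, h₁, t₁, comp_lift, whiskerRight_fst, whiskerRight_snd_assoc]
  have ha : ∀ {U : Over (Spec (CommRingCat.of R))} (g g' : U ⟶ G) (z : U ⟶ X),
      lift (g * g') z ≫ a.act = lift g (lift g' z ≫ a.act) ≫ a.act := fun g g' z => by
    rw [Hom.mul_def, ← lift_whiskerRight, Category.assoc, a.mul_act, lift_lift_associator_hom_assoc,
      lift_whiskerLeft_assoc]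
  rw [reassoc_of% hσ, reassoc_of% hσ, lift_lift_associator_inv_assoc, lift_whiskerRight_assoc, act_incl,
    lift_whiskerLeft_assoc, key, key, ha]

end Groth.Agent.LineFam
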